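import Mathlib.LinearAlgebra.Dimension.Finite
import Mathlib.LinearAlgebra.FiniteDimensional.Lemmas
import Mathlib.LinearAlgebra.LinearIndependent.Lemmas
import Mathlib.Tactic.Linarith
import Mathlib.Tactic.Positivity
import Mathlib.Tactic.FieldSimp
import Mathlib.Tactic.Ring
import Mathlib.Data.Rat.Lemmas

/-!
# The base polytope of a representable matroid
-/

set_option autoImplicit false

open Finset

namespace Groth.Agent.MatroidPoly

variable {K V ι : Type*} [Field K] [AddCommGroup V] [Module K V] [FiniteDimensional K V]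
variable (x : ι → V)

/-- The rank of a set of indices. -/
noncomputable def rk (S : Finset ι) : ℕ := Module.finrank K (Submodule.span K (x '' (S : Set ι)))

/-- An independent set. -/
def Ind (S : Finset ι) : Prop := LinearIndepOn K x (S : Set ι)

theorem rk_mono {S T : Finset ι} (h : S ⊆ T) : rk (K := K) x S ≤ rk (K := K) x T :=
  Submodule.finrank_mono (Submodule.span_mono (Set.image_mono (Finset.coe_subset.2 h)))

theorem rk_le_card (S : Finset ι) : rk (K := K) x S ≤ S.card := by
  classical
  rw [rk, ← Finset.coe_image]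
  exact (finrank_span_finset_le_card _).trans Finset.card_image_le

theorem rk_eq_card {S : Finset ι} (h : Ind (K := K) x S) : rk (K := K) x S = S.card := by
  rw [rk, Set.image_eq_range]
  exact (finrank_span_eq_card (R := K) (b := fun i : (S : Set ι) => x i) h).trans (by simp)

theorem Ind.subset {S T : Finset ι} (h : Ind (K := K) x T) (hS : S ⊆ T) : Ind (K := K) x S :=
  LinearIndepOn.mono h (Finset.coe_subset.2 hS)

theorem card_inter_le [DecidableEq ι] {B : Finset ι} (h : Ind (K := K) x B) (S : Finset ι) :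
    (B ∩ S).card ≤ rk (K := K) x S :=
  (rk_eq_card x (Ind.subset x h inter_subset_left)).symm.le.trans (rk_mono x inter_subset_right)

theorem rk_submod [DecidableEq ι] (S T : Finset ι) :
    rk (K := K) x (S ∪ T) + rk (K := K) x (S ∩ T) ≤ rk (K := K) x S + rk (K := K) x T := by
  rw [rk, rk, rk, rk, Finset.coe_union, Finset.coe_inter, Set.image_union, Submodule.span_union,
    ← Submodule.finrank_sup_add_finrank_inf_eq (Submodule.span K (x '' S)) (Submodule.span K (x '' T))]
  refine Nat.add_le_add_left (Submodule.finrank_mono ?_) _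
  exact le_inf (Submodule.span_mono (Set.image_mono Set.inter_subset_left))
    (Submodule.span_mono (Set.image_mono Set.inter_subset_right))

theorem exists_extend [DecidableEq ι] {I T : Finset ι} (hI : Ind (K := K) x I) (h : I ⊆ T) :
    ∃ J : Finset ι, I ⊆ J ∧ J ⊆ T ∧ Ind (K := K) x J ∧ J.card = rk (K := K) x T := by
  classical
  obtain ⟨b, hb1, hb2, hb3, hb4⟩ := exists_linearIndepOn_extension hI (Finset.coe_subset.2 h)
  lift b to Finset ι using T.finite_toSet.subset hb1
  refine ⟨b, Finset.coe_subset.1 hb2, Finset.coe_subset.1 hb1, hb4, ?_⟩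
  rw [← rk_eq_card x hb4]
  exact le_antisymm (rk_mono x (Finset.coe_subset.1 hb1)) (Submodule.finrank_mono (Submodule.span_le.2 hb3))

theorem ind_empty : Ind (K := K) x ∅ := by
  rw [Ind, Finset.coe_empty]; exact linearIndepOn_empty K x

theorem rk_empty : rk (K := K) x ∅ = 0 := Nat.le_zero.1 ((rk_le_card x ∅).trans (by simp))

section Poly

variable [DecidableEq ι]

/-- The slack. -/
noncomputable def slack (v : ι → ℚ) (c : ℚ) (S : Finset ι) : ℚ := c * rk (K := K) x S - ∑ j ∈ S, v j

variable {v : ι → ℚ} {c : ℚ}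

theorem modular (hc : 0 < c) (hf : ∀ S, 0 ≤ slack (K := K) x v c S) {S T : Finset ι}
    (hS : slack (K := K) x v c S = 0) (hT : slack (K := K) x v c T = 0) :
    slack (K := K) x v c (S ∪ T) = 0 ∧ slack (K := K) x v c (S ∩ T) = 0 ∧
      rk (K := K) x (S ∪ T) + rk (K := K) x (S ∩ T) = rk (K := K) x S + rk (K := K) x T := by
  have hsum := Finset.sum_union_inter (s₁ := S) (s₂ := T) (f := v)
  have h1 := hf (S ∪ T)
  have h2 := hf (S ∩ T)
  have h3 : (rk (K := K) x (S ∪ T) : ℚ) + rk (K := K) x (S ∩ T) ≤ rk (K := K) x S + rk (K := K) x T := by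
    exact_mod_cast rk_submod x S T
  simp only [slack] at hS hT h1 h2 ⊢
  have h4 := mul_le_mul_of_nonneg_left h3 hc.le
  refine ⟨by linarith, by linarith, ?_⟩
  have h5 : c * ((rk (K := K) x (S ∪ T) : ℚ) + rk (K := K) x (S ∩ T)) =
      c * ((rk (K := K) x S : ℚ) + rk (K := K) x T) := by linarith
  exact_mod_cast mul_left_cancel₀ hc.ne' h5

theorem exists_tight_base (hc : 0 < c) (hf : ∀ S, 0 ≤ slack (K := K) x v c S) (T : Finset ι)
    (hT : slack (K := K) x v c T = 0) :
    ∃ J ⊆ T, Ind (K := K) x J ∧ J.card = rk (K := K) x T ∧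
      ∀ S ⊆ T, slack (K := K) x v c S = 0 → rk (K := K) x S ≤ (J ∩ S).card := by
  classical
  induction T using Finset.strongInduction with
  | _ T ih =>
    by_cases hT0 : T = ∅
    · subst hT0
      exact ⟨∅, subset_rfl, ind_empty x, by rw [rk_empty, card_empty], fun S hS _ => by
        rw [Finset.subset_empty.1 hS, rk_empty]; exact Nat.zero_le _⟩
    have hne : (T.powerset.filter fun S => S ≠ T ∧ slack (K := K) x v c S = 0).Nonempty :=
      ⟨∅, Finset.mem_filter.2 ⟨Finset.empty_mem_powerset _, Ne.symm hT0, by simp [slack, rk_empty]⟩⟩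
    obtain ⟨S₀, hS₀, hmax⟩ := Finset.exists_max_image _ Finset.card hne
    simp only [Finset.mem_filter, Finset.mem_powerset] at hS₀ hmax
    obtain ⟨hS₀T, hS₀ne, hS₀0⟩ := hS₀
    obtain ⟨J₀, hJ₀, hI₀, -, h₀⟩ := ih S₀ ⟨hS₀T, fun h => hS₀ne (subset_antisymm hS₀T h)⟩ hS₀0
    obtain ⟨J, hJ₀J, hJT, hIJ, hcard⟩ := exists_extend x hI₀ (hJ₀.trans hS₀T)
    refine ⟨J, hJT, hIJ, hcard, fun S hS hS0 => ?_⟩
    obtain ⟨hu, hi, hmod⟩ := modular x hc hf hS0 hS₀0
    have hlow : ∀ U ⊆ S₀, slack (K := K) x v c U = 0 → rk (K := K) x U ≤ (J ∩ U).card := fun U hU hU0 =>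
      (h₀ U hU hU0).trans (Finset.card_le_card (Finset.inter_subset_inter hJ₀J subset_rfl))
    by_cases hUT : S ∪ S₀ = T
    · have h1 := hlow (S ∩ S₀) inter_subset_right hi
      have h2 := Finset.card_union_add_card_inter (J ∩ S) (J ∩ S₀)
      have h4 : J ∩ S ∪ J ∩ S₀ = J := by rw [← Finset.inter_union_distrib_left, hUT, Finset.inter_eq_left.2 hJT]
      have h5 : (J ∩ S) ∩ (J ∩ S₀) = J ∩ (S ∩ S₀) := by ext; simp; tauto
      have h3 := card_inter_le x hIJ S₀
      rw [h4, h5, hcard] at h2
      rw [hUT] at hmod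
      omega
    · have h := hmax (S ∪ S₀) ⟨union_subset hS hS₀T, hUT, hu⟩
      have hSS : S ∪ S₀ = S₀ := (Finset.eq_of_subset_of_card_le subset_union_right h).symm
      exact hlow S (Finset.union_eq_right.1 hSS) hS0

variable [Fintype ι]

theorem exists_decomp (hfull : rk (K := K) x Finset.univ = Module.finrank K V) (v : ι → ℚ) (c : ℚ) (hc : 0 ≤ c)
    (hv : ∀ j, 0 ≤ v j) (hf : ∀ S, 0 ≤ slack (K := K) x v c S) (hE : slack (K := K) x v c Finset.univ = 0) :
    ∃ q : Finset ι → ℚ, (∀ B, 0 ≤ q B) ∧ (∀ B, q B ≠ 0 → B.card = Module.finrank K V ∧ Ind (K := K) x B) ∧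
      ∀ j, v j = ∑ B, if j ∈ B then q B else 0 := by
  classical
  generalize hN : (Finset.univ.filter fun j => v j ≠ 0).card +
    (Finset.univ.filter fun S : Finset ι => slack (K := K) x v c S ≠ 0).card = N
  induction N using Nat.strongRecOn generalizing v c with
  | _ N ih =>
    by_cases hv0 : ∀ j, v j = 0
    · exact ⟨0, fun _ => le_rfl, fun B h => absurd rfl h, fun j => by simp [hv0 j]⟩
    push_neg at hv0
    obtain ⟨j₀, hj₀⟩ := hv0
    have hle : ∀ j, v j ≤ c := fun j => by
      have := hf {j}
      simp only [slack, Finset.sum_singleton, sub_nonneg] at this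
      refine this.trans (mul_le_of_le_one_right hc ?_)
      exact_mod_cast (rk_le_card x {j}).trans (by simp)
    have hc' : 0 < c := lt_of_lt_of_le (lt_of_le_of_ne (hv j₀) (Ne.symm hj₀)) (hle j₀)
    obtain ⟨B, -, hB, hBc, hBt⟩ := exists_tight_base x hc' hf Finset.univ hE
    rw [hfull] at hBc
    let E' := Finset.univ.filter fun j => v j ≠ 0
    have hE' : slack (K := K) x v c E' = 0 := by
      refine le_antisymm ?_ (hf E')
      rw [← hE]
      simp only [slack, E', Finset.sum_filter_ne_zero]
      exact sub_le_sub_right (mul_le_mul_of_nonneg_left (by exact_mod_cast rk_mono x (Finset.subset_univ _)) hc) _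
    have hsupp : ∀ j ∈ B, v j ≠ 0 := by
      have h1 := hBt E' (Finset.subset_univ _) hE'
      have h2 : rk (K := K) x Finset.univ ≤ rk (K := K) x E' := by
        have : c * rk (K := K) x E' = c * rk (K := K) x Finset.univ := by
          simp only [slack, E', Finset.sum_filter_ne_zero] at hE' hE ⊢
          linarith
        exact_mod_cast (mul_left_cancel₀ hc'.ne' this).ge
      have h3 : B ∩ E' = B := Finset.eq_of_subset_of_card_le inter_subset_left (by omega)
      intro j hj
      rw [← h3] at hj
      exact (Finset.mem_filter.1 (Finset.mem_inter.1 hj).2).2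
    let d : Finset ι → ℚ := fun S => rk (K := K) x S - (B ∩ S).card
    have hd : ∀ S, 0 ≤ d S := fun S => sub_nonneg.2 (by exact_mod_cast card_inter_le x hB S)
    let C : Finset ℚ := B.image v ∪ (Finset.univ.filter fun S => 0 < d S).image fun S => slack (K := K) x v c S / d S
    have hCne : C.Nonempty := by
      refine Finset.Nonempty.inl (Finset.Nonempty.image ?_ _)
      by_contra h
      rw [Finset.not_nonempty_iff_eq_empty] at h
      subst h
      have : (rk (K := K) x Finset.univ) = 0 := by rw [hfull, ← hBc, card_empty]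
      simp only [slack, this, Nat.cast_zero, mul_zero, zero_sub, neg_eq_zero] at hE
      exact hj₀ ((Finset.sum_eq_zero_iff_of_nonneg fun j _ => hv j).1 hE j₀ (Finset.mem_univ _))
    obtain ⟨θ, hθC, hθ⟩ : ∃ θ ∈ C, ∀ a ∈ C, θ ≤ a := ⟨C.min' hCne, C.min'_mem hCne, fun a => C.min'_le a⟩
    have hθ0 : 0 ≤ θ := by
      simp only [C, Finset.mem_union, Finset.mem_image, Finset.mem_filter] at hθC
      rcases hθC with ⟨j, -, rfl⟩ | ⟨S, ⟨-, hS⟩, rfl⟩
      · exact hv j
      · exact div_nonneg (hf S) hS.le
    let v' : ι → ℚ := fun j => v j - if j ∈ B then θ else 0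
    have hθv : ∀ j ∈ B, θ ≤ v j := fun j hj => hθ _ (Finset.mem_union_left _ (Finset.mem_image_of_mem _ hj))
    have hs : ∀ S, slack (K := K) x v' (c - θ) S = slack (K := K) x v c S - θ * d S := fun S => by
      simp only [slack, v', d, Finset.sum_sub_distrib, Finset.sum_ite_mem, Finset.sum_const, nsmul_eq_mul,
        Finset.inter_comm S B]
      ring
    have hdt : ∀ S, slack (K := K) x v c S = 0 → d S = 0 := fun S hS =>
      le_antisymm (sub_nonpos.2 (by exact_mod_cast hBt S (Finset.subset_univ _) hS)) (hd S)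
    have hf' : ∀ S, 0 ≤ slack (K := K) x v' (c - θ) S := fun S => by
      rw [hs, sub_nonneg]
      rcases (hd S).lt_or_eq with h | h
      · exact (le_div_iff₀ h).1 (hθ _ (Finset.mem_union_right _ (Finset.mem_image_of_mem _
          (Finset.mem_filter.2 ⟨Finset.mem_univ _, h⟩))))
      · rw [← h, mul_zero]; exact hf S
    have hv' : ∀ j, 0 ≤ v' j := fun j => by
      simp only [v']; split_ifs with h
      · linarith [hθv j h]
      · linarith [hv j]
    have hc'' : 0 ≤ c - θ := by
      obtain ⟨j, hj⟩ : B.Nonempty := by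
        by_contra h
        rw [Finset.not_nonempty_iff_eq_empty] at h
        simp [C, h] at hCne hθC
        have : rk (K := K) x Finset.univ = 0 := by rw [hfull, ← hBc, h, card_empty]
        simp only [slack, this, Nat.cast_zero, mul_zero, zero_sub, neg_eq_zero] at hE
        exact hj₀ ((Finset.sum_eq_zero_iff_of_nonneg fun j _ => hv j).1 hE j₀ (Finset.mem_univ _))
      linarith [hθv j hj, hle j]
    have hE2 : slack (K := K) x v' (c - θ) Finset.univ = 0 := by
      rw [hs, hE, hdt _ hE, mul_zero, sub_zero]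
    have hsub1 : (Finset.univ.filter fun j => v' j ≠ 0) ⊆ Finset.univ.filter fun j => v j ≠ 0 := by
      intro j
      simp only [Finset.mem_filter, Finset.mem_univ, true_and, v']
      split_ifs with h
      · exact fun _ => hsupp j h
      · simp
    have hsub2 : (Finset.univ.filter fun S : Finset ι => slack (K := K) x v' (c - θ) S ≠ 0) ⊆
        Finset.univ.filter fun S : Finset ι => slack (K := K) x v c S ≠ 0 := by
      intro S
      simp only [Finset.mem_filter, Finset.mem_univ, true_and, hs]
      intro h h0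
      exact h (by rw [h0, hdt S h0, mul_zero, sub_zero])
    have hlt : (Finset.univ.filter fun j => v' j ≠ 0).card +
        (Finset.univ.filter fun S : Finset ι => slack (K := K) x v' (c - θ) S ≠ 0).card < N := by
      rw [← hN]
      simp only [C, Finset.mem_union, Finset.mem_image, Finset.mem_filter] at hθC
      rcases hθC with ⟨j, hj, hjθ⟩ | ⟨S, ⟨-, hS⟩, hSθ⟩
      · refine Nat.add_lt_add_of_lt_of_le (Finset.card_lt_card ((Finset.ssubset_iff_of_subset hsub1).2
          ⟨j, ?_, ?_⟩)) (Finset.card_le_card hsub2)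
        · simpa using hsupp j hj
        · simp [v', hj, hjθ]
      · refine Nat.add_lt_add_of_le_of_lt (Finset.card_le_card hsub1) (Finset.card_lt_card
          ((Finset.ssubset_iff_of_subset hsub2).2 ⟨S, ?_, ?_⟩))
        · simpa using fun h => hS.ne' (hdt S h)
        · rw [Finset.mem_filter, hs, ← hSθ, div_mul_cancel₀ _ hS.ne', sub_self]; simp
    obtain ⟨q, hq0, hqB, hq⟩ := ih _ hlt v' (c - θ) hc'' hv' hf' hE2 rfl
    refine ⟨fun B' => q B' + if B' = B then θ else 0, fun B' => add_nonneg (hq0 B') (by split_ifs <;> simp [hθ0]),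
      fun B' h => ?_, fun j => ?_⟩
    · by_cases hB' : B' = B
      · subst hB'; exact ⟨hBc, hB⟩
      · exact hqB B' (by simpa [hB'] using h)
    · have : ∀ B' : Finset ι, (if j ∈ B' then q B' + (if B' = B then θ else 0) else 0) =
          (if j ∈ B' then q B' else 0) + (if B' = B then (if j ∈ B then θ else 0) else 0) := fun B' => by
        by_cases h : B' = B
        · subst h; split_ifs <;> simp
        · split_ifs <;> simp
      rw [Finset.sum_congr rfl fun B' _ => this B', Finset.sum_add_distrib, ← hq j]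
      simp [v']

end Poly

section Count

variable [DecidableEq ι]

theorem sum_card_filter (P : Multiset (Finset ι)) (T : Finset ι) :
    ∑ j ∈ T, (P.filter fun S => j ∈ S).card = (P.map fun S => (S ∩ T).card).sum := by
  induction P using Multiset.induction_on with
  | empty => simp
  | cons S P ih =>
    simp only [Multiset.filter_cons, Multiset.card_add, Finset.sum_add_distrib, ih, Multiset.map_cons, Multiset.sum_cons]
    congr 1
    rw [Finset.inter_comm, Finset.card_eq_sum_ones, ← Finset.sum_ite_mem]
    exact Finset.sum_congr rfl fun j _ => by split_ifs <;> simp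

end Count

end Groth.Agent.MatroidPoly
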